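import Mathlib
import Cfsg.Agent.Lib.Helper22.BG.FusionCtl
import Cfsg.Agent.Lib.Helper72.BG8
import Cfsg.Agent.S1457

/-!
# Fusion control in a minimal simple group of odd order (helper22, for BG Lemma 9.5)

If `P` is a Sylow `p`-subgroup of a minimal simple group `G` of odd order, `A` an abelian normal
subgroup of `P` and `M` a subgroup containing `N_G(T)` for all `A ≤ T ≤ P`, then `M` controls
fusion in `P` up to centralizers, and `P ≤ M'`.
-/

set_option autoImplicit false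

namespace Cfsg.Agent.Lib.Helper22.BG

open Cfsg Cfsg.Agent.Lib.Helper33
open scoped commutatorElement

/-- Focal-subgroup consequence of fusion control: `P ∩ G' ≤ M'`, here for `P ≤ G'`. -/
theorem sylow_le_commutator_of_fusion {G : Type*} [Group G] [Finite G] {p : ℕ} [Fact p.Prime]
    (P : Sylow p G) (M : Subgroup G) (hPM : (P : Subgroup G) ≤ M)
    (hfc : ∀ T : Subgroup G, T ≤ (P : Subgroup G) → ∀ g : G, cj g⁻¹ T ≤ (P : Subgroup G) →
      ∃ c ∈ Subgroup.centralizer (T : Set G), ∃ m ∈ M, g = c * m)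
    (hperf : (P : Subgroup G) ≤ commutator G) : (P : Subgroup G) ≤ ⁅M, M⁆ := by
  have h1 : (P : Subgroup G) = (P : Subgroup G).focalSubgroup := by
    rw [← Subgroup.commutator_inf_eq_focalSubgroup P]
    exact (inf_eq_right.2 hperf).symm
  rw [h1, Subgroup.focalSubgroup_def, Subgroup.closure_le]
  rintro g ⟨hg, x, hx, u, rfl⟩
  have h2 : u * x * u⁻¹ ∈ (P : Subgroup G) := by
    have h3 : x⁻¹ * ⁅x, u⁆ ∈ (P : Subgroup G) := mul_mem (inv_mem hx) hg
    have h4 : (x⁻¹ * ⁅x, u⁆)⁻¹ = u * x * u⁻¹ := by rw [commutatorElement_def]; group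
    rw [← h4]; exact inv_mem h3
  have h5 : cj (u⁻¹)⁻¹ (Subgroup.zpowers x) ≤ (P : Subgroup G) := by
    rw [inv_inv]
    intro y hy
    rw [mem_cj] at hy
    obtain ⟨k, hk⟩ := hy
    have h6 : y = (u * x * u⁻¹) ^ k := by
      rw [conj_zpow]
      have h7 : x ^ k = u⁻¹ * y * u := hk
      rw [h7]; group
    rw [h6]; exact zpow_mem h2 k
  obtain ⟨c, hc, m, hm, hucm⟩ := hfc (Subgroup.zpowers x) (Subgroup.zpowers_le.2 hx) u⁻¹ h5
  have hcx : x * c = c * x :=
    (Subgroup.mem_centralizer_iff.1 hc) x (Subgroup.mem_zpowers x)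
  have hu : u = m⁻¹ * c⁻¹ := by
    have : u = (u⁻¹)⁻¹ := (inv_inv u).symm
    rw [this, hucm]; group
  have h8 : ⁅x, u⁆ = ⁅x, m⁻¹⁆ := by
    rw [commutatorElement_def, commutatorElement_def, hu]
    have h9 : c⁻¹ * x⁻¹ = x⁻¹ * c⁻¹ := by
      have : (x * c)⁻¹ = (c * x)⁻¹ := by rw [hcx]
      simpa [mul_inv_rev] using this
    calc x * (m⁻¹ * c⁻¹) * x⁻¹ * (m⁻¹ * c⁻¹)⁻¹ = x * m⁻¹ * (c⁻¹ * x⁻¹) * c * m := by group
      _ = x * m⁻¹ * (x⁻¹ * c⁻¹) * c * m := by rw [h9]
      _ = x * m⁻¹ * x⁻¹ * m⁻¹⁻¹ := by group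
  rw [SetLike.mem_coe, h8]
  exact Subgroup.commutator_mem_commutator (hPM hx) (inv_mem hm)

/-- A minimal simple group is perfect. -/
theorem commutator_eq_top_of_minSimple {G : Type*} [Group G] (hG : IsMinSimpleOddOrder G) :
    commutator G = ⊤ := by
  obtain ⟨-, hsimple, hnc, -⟩ := hG
  have hn : (commutator G).Normal := by
    rw [commutator_def]; infer_instance
  rcases hn.eq_bot_or_eq_top with h | h
  · exfalso
    apply hnc
    refine ⟨⟨fun a b => ?_⟩⟩
    have h1 : ⁅a, b⁆ ∈ commutator G := by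
      rw [commutator_def]
      exact Subgroup.commutator_mem_commutator (Subgroup.mem_top a) (Subgroup.mem_top b)
    rw [h, Subgroup.mem_bot] at h1
    exact commutatorElement_eq_one_iff_mul_comm.1 h1
  · exact h

/-- **Fusion control in a minimal simple group of odd order.** -/
theorem bg_fusion_ctl {G : Type*} [Group G] [Finite G] (hG : IsMinSimpleOddOrder G)
    {p : ℕ} [Fact p.Prime] (P : Sylow p G) (A M : Subgroup G)
    (hAP : A ≤ (P : Subgroup G)) (hAn : (P : Subgroup G) ≤ Subgroup.normalizer (A : Set G))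
    (hAc : IsMulCommutative A)
    (hM : ∀ T : Subgroup G, A ≤ T → T ≤ (P : Subgroup G) →
      Subgroup.normalizer (T : Set G) ≤ M) :
    (∀ T : Subgroup G, T ≤ (P : Subgroup G) → ∀ g : G, cj g⁻¹ T ≤ (P : Subgroup G) →
      ∃ c ∈ Subgroup.centralizer (T : Set G), ∃ m ∈ M, g = c * m) ∧
    (P : Subgroup G) ≤ ⁅M, M⁆ := by
  have hfc := fusion_ctl P A M hAP hAn hAc hM (by
    intro U hUP hU S B hB hBc hBn
    have hUp : IsPGroup p U := P.2.to_le hUP
    have hN : Subgroup.normalizer (U : Set G) ≠ ⊤ :=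
      Cfsg.Agent.Lib.Helper72.BG8.normalizer_ne_top_of_isPGroup hG hUp hU
    haveI : Group.IsSolvable ↥(Subgroup.normalizer (U : Set G)) := hG.2.2.2 _ hN
    have hodd : Odd (Nat.card ↥(Subgroup.normalizer (U : Set G))) :=
      Odd.of_dvd_nat hG.1 (Subgroup.card_subgroup_dvd_card _)
    exact Cfsg.Agent.S1457.result hodd p S B hB hBc hBn)
  refine ⟨hfc, ?_⟩
  have hPM : (P : Subgroup G) ≤ M := Subgroup.le_normalizer.trans (hM P hAP le_rfl)
  refine sylow_le_commutator_of_fusion P M hPM hfc ?_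
  rw [commutator_eq_top_of_minSimple hG]; exact le_top

end Cfsg.Agent.Lib.Helper22.BG
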